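import Cfsg.Agent.H337.HT.Num
import Cfsg.Agent.H915.LD
import Cfsg.Agent.H912.LSUse
import Cfsg.Agent.H203.LSTwE6
import Cfsg.Agent.H203.LSTwD4
import Cfsg.Agent.H203.LSTwF4
import Cfsg.Agent.H203.LSSz
import Cfsg.Agent.H95.LSx.Tits
import Cfsg.Agent.H867.TitsOut
import Cfsg.Agent.S1066
import Cfsg.Agent.S1067
import Cfsg.Agent.S1068
import Cfsg.Agent.S1069
import Cfsg.Agent.S1070
import Cfsg.Agent.S1071
import Cfsg.Agent.S1072
import Cfsg.Agent.S1073
import Cfsg.Agent.S1074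
import Cfsg.Agent.S1162
import Cfsg.Agent.S1163
import Cfsg.Agent.S2126
import Cfsg.Agent.S2127
import Cfsg.Agent.S2128
import Cfsg.Agent.S2129
import Cfsg.Agent.S2130

/-!
# S3540, task B8: the twisted groups of exceptional type and the Tits group are dead for `n ≥ 13`
-/

set_option autoImplicit false

namespace Cfsg.Agent.H638.HT

open Cfsg Cfsg.Agent.H915.LD Cfsg.Agent.H337.HT Cfsg.Agent.H203.LS

universe u v

/-! ### tools -/

/-- `|Aut S| = |Out S| |S|` for a non-abelian simple group -/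
theorem card_aut {S : Type u} [Group S] [Finite S] (hs : IsSimpleGroup S) (hna : ¬ IsMulCommutative S) :
    Nat.card (MulAut S) = Nat.card (Out S) * Nat.card S := by
  have hker : (MulAut.conj (G := S)).ker = ⊥ := by
    have h1 : (MulAut.conj (G := S)).ker.Normal := MonoidHom.normal_ker _
    rcases h1.eq_bot_or_eq_top with h | h
    · exact h
    · exfalso
      apply hna
      refine ⟨⟨fun a b => ?_⟩⟩
      have h2 : a ∈ (MulAut.conj (G := S)).ker := h ▸ Subgroup.mem_top a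
      have h3 := congrArg (fun e : MulAut S => e b) (MonoidHom.mem_ker.1 h2)
      have h4 : a * b * a⁻¹ = b := h3
      rw [mul_inv_eq_iff_eq_mul] at h4
      exact h4
  have h1 : Nat.card (Inn S) = Nat.card S :=
    (Nat.card_congr (MonoidHom.ofInjective ((MonoidHom.ker_eq_bot_iff _).1 hker)).toEquiv).symm
  rw [← h1]
  exact Subgroup.card_eq_card_quotient_mul_card_subgroup (Inn S)

theorem b3 {o q : ℕ} (h2 : 2 ∣ o) (hq : 2 ≤ q) (hc : q.Coprime o) : 3 ≤ q := by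
  by_contra hcon
  have : q = 2 := by omega
  subst this
  exact absurd (Nat.Coprime.eq_one_of_dvd hc h2) (by norm_num)

theorem b5 {o q : ℕ} (h2 : 2 ∣ o) (h3 : 3 ∣ o) (hq : 2 ≤ q) (hc : q.Coprime o) : 5 ≤ q := by
  have h4 := b3 h2 hq hc
  by_contra hcon
  have h5 : q = 3 ∨ q = 4 := by omega
  rcases h5 with rfl | rfl
  · exact absurd (Nat.Coprime.eq_one_of_dvd hc h3) (by norm_num)
  · have : Nat.Coprime 2 o := Nat.Coprime.coprime_dvd_left (by norm_num) hc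
    exact absurd (Nat.Coprime.eq_one_of_dvd this h2) (by norm_num)

theorem b7 {o q : ℕ} (h2 : 2 ∣ o) (h3 : 3 ∣ o) (h5 : 5 ∣ o) (hq : 2 ≤ q) (hc : q.Coprime o) : 7 ≤ q := by
  have h4 := b5 h2 h3 hq hc
  by_contra hcon
  have h6 : q = 5 ∨ q = 6 := by omega
  rcases h6 with rfl | rfl
  · exact absurd (Nat.Coprime.eq_one_of_dvd hc h5) (by norm_num)
  · have : Nat.Coprime 2 o := Nat.Coprime.coprime_dvd_left (by norm_num) hc
    exact absurd (Nat.Coprime.eq_one_of_dvd this h2) (by norm_num)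

/-- size, `b ≥ 4` -/
theorem dead_four {T : Type u} [Group T] [Finite T] {n s k : ℕ} (hn : 2 ≤ n) (h2 : 2 ∣ Nat.card T)
    (h3 : 3 ∣ Nat.card T) (hA : Nat.card (MulAut T) ≤ s ^ k) (h : 2 * (k * s) ≤ 2 * (n - 2)) : Dead n T := by
  refine dead_of_pow (b := 5) hn (fun q hq hc => b5 h2 h3 hq hc) ?_
  have h1 : s ≤ 2 ^ s := Nat.lt_two_pow_self.le
  calc Nat.card (MulAut T) ^ 2 ≤ (s ^ k) ^ 2 := Nat.pow_le_pow_left hA 2
    _ = s ^ (2 * k) := by rw [← pow_mul, mul_comm]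
    _ ≤ (2 ^ s) ^ (2 * k) := Nat.pow_le_pow_left h1 _
    _ = 2 ^ (2 * (k * s)) := by rw [← pow_mul]; congr 1; ring
    _ ≤ 2 ^ (2 * (n - 2)) := Nat.pow_le_pow_right (by norm_num) h
    _ = 4 ^ (n - 2) := by rw [pow_mul]; norm_num
    _ ≤ 5 ^ (n - 2) := Nat.pow_le_pow_left (by norm_num) _
    _ ≤ 2 * 5 ^ (n - 2) := by omega

theorem dvd_three_of_sq {q : ℕ} (hq : 1 ≤ q) (h3 : ¬ 3 ∣ q) : 3 ∣ q ^ 2 - 1 := by
  have h1 : q % 3 = 1 ∨ q % 3 = 2 := by omega
  have h2 : q ^ 2 % 3 = 1 := by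
    rcases h1 with h | h <;> simp [Nat.pow_mod, h]
  omega

theorem dvd_two_of_sq {q : ℕ} (hq : 1 ≤ q) (h3 : ¬ 2 ∣ q) : 2 ∣ q ^ 2 - 1 := by
  have h1 : q % 2 = 1 := by omega
  have h2 : q ^ 2 % 2 = 1 := by simp [Nat.pow_mod, h1]
  omega

/-- `2, 3` divide `q ^ a (q² - 1) c` -/
theorem dvd_six {q a c : ℕ} (hq : 1 ≤ q) (ha : a ≠ 0) : 2 ∣ q ^ a * (q ^ 2 - 1) * c ∧ 3 ∣ q ^ a * (q ^ 2 - 1) * c := by
  constructor
  · apply Dvd.dvd.mul_right
    by_cases h : 2 ∣ q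
    · exact Dvd.dvd.mul_right (h.trans (dvd_pow_self q ha)) _
    · exact Dvd.dvd.mul_left (dvd_two_of_sq hq h) _
  · apply Dvd.dvd.mul_right
    by_cases h : 3 ∣ q
    · exact Dvd.dvd.mul_right (h.trans (dvd_pow_self q ha)) _
    · exact Dvd.dvd.mul_left (dvd_three_of_sq hq h) _

/-! ### `³D₄(q)` -/

theorem dead_3d4 {K : Type v} [Field K] [Fintype K] {q n : ℕ} (hq : IsPrimePow q) (hK : Fintype.card K = q ^ 3)
    (hn : 13 ≤ n) (hd : (q - 1) * q ^ 4 ≤ n) : Dead n ↥(Lie.twistedD4 K q) := by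
  obtain ⟨r, f, hr, hf, rfl⟩ := hq
  have hr : r.Prime := hr.nat_prime
  have hfact : Fact r.Prime := ⟨hr⟩
  have hq : IsPrimePow (r ^ f) := ⟨r, f, hr.prime, hf, rfl⟩
  have hchar : CharP K r := H203.LS.charP_of_card (n := f * 3) hr (by rw [hK, pow_mul])
  obtain ⟨hs, hna⟩ := S1071.result hq hK
  have hT := S1067.result hq hK
  have hout : Nat.card (Out ↥(Lie.twistedD4 K (r ^ f))) = 3 * f :=
    S2129.result r f (by rw [hK, ← pow_mul, mul_comm]) hf
  have hA := card_aut hs hna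
  have h2 : 2 ≤ r ^ f := hq.two_le
  have hfq : f < r ^ f := Nat.lt_pow_self hr.one_lt
  have hf1 : r ^ f = 2 → f = 1 := by
    intro h
    have : f < 2 := by omega
    omega
  generalize hqq : r ^ f = q at *
  rw [hout] at hA
  by_cases h3 : 3 ≤ q
  · have h8 : q ^ 8 + q ^ 4 + 1 ≤ q ^ 9 := by
      have e1 : q ^ 9 = q * q ^ 8 := by ring
      have e2 : 2 * q ^ 8 ≤ q * q ^ 8 := Nat.mul_le_mul_right _ h2
      have e3 : q ^ 4 + 1 ≤ q ^ 8 := by
        have : q ^ 4 < q ^ 8 := Nat.pow_lt_pow_right (by omega) (by norm_num)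
        omega
      omega
    have h1 : Nat.card ↥(Lie.twistedD4 K q) ≤ q ^ 29 := by
      rw [hT]
      calc q ^ 12 * (q ^ 2 - 1) * (q ^ 6 - 1) * (q ^ 8 + q ^ 4 + 1) ≤ q ^ 12 * q ^ 2 * q ^ 6 * q ^ 9 :=
            Nat.mul_le_mul (Nat.mul_le_mul (Nat.mul_le_mul_left _ (Nat.sub_le _ _)) (Nat.sub_le _ _)) h8
        _ = q ^ 29 := by ring
    obtain ⟨d2, d3⟩ := dvd_six (q := q) (a := 12) (c := (q ^ 6 - 1) * (q ^ 8 + q ^ 4 + 1)) (by omega) (by norm_num)
    rw [← mul_assoc, ← hT] at d2 d3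
    refine dead_four (s := q) (k := 31) (by omega) d2 d3 ?_ ?_
    · rw [hA]
      calc 3 * f * Nat.card ↥(Lie.twistedD4 K q) ≤ q * q * q ^ 29 :=
            Nat.mul_le_mul (Nat.mul_le_mul h3 hfq.le) h1
        _ = q ^ 31 := by ring
    · have h4 : 54 * q ≤ (q - 1) * q ^ 4 := by
        have e1 : 2 * (27 * q) ≤ (q - 1) * q ^ 4 := by
          refine Nat.mul_le_mul (by omega) ?_
          have e2 : q ^ 4 = q ^ 3 * q := by ring
          rw [e2]
          refine Nat.mul_le_mul_right _ ?_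
          calc 27 = 3 ^ 3 := by norm_num
            _ ≤ q ^ 3 := Nat.pow_le_pow_left h3 3
        omega
      omega
  · have h6 : q = 2 := by omega
    have hf' := hf1 h6
    subst h6
    rw [hf'] at hA
    have hT' : Nat.card ↥(Lie.twistedD4 K 2) = 211341312 := by rw [hT]; norm_num
    rw [hT'] at hA
    refine sieve_dead (n₀ := 16) (A := 634023936) 5 200 200 hT' (by rw [hA]) (by norm_num) (by norm_num) (by norm_num)
      (by decide) (by decide) (by omega)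

/-! ### `²E₆(q)` -/

theorem dead_2e6 {K : Type v} [Field K] [Fintype K] {q n : ℕ} (hq : IsPrimePow q) (hK : Fintype.card K = q ^ 2)
    (hd : (q - 1) * q ^ 6 ≤ n) : Dead n ↥(Lie.twistedE6 K q) := by
  obtain ⟨r, f, hr, hf, rfl⟩ := hq
  have hr : r.Prime := hr.nat_prime
  have hfact : Fact r.Prime := ⟨hr⟩
  have hq : IsPrimePow (r ^ f) := ⟨r, f, hr.prime, hf, rfl⟩
  have hchar : CharP K r := H203.LS.charP_of_card (n := f * 2) hr (by rw [hK, pow_mul])
  obtain ⟨hs, hna⟩ := S1070.result hq hK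
  have hT := S1066.result hq hK
  have hout : Nat.card (Out ↥(Lie.twistedE6 K (r ^ f))) = 2 * Nat.gcd 3 (r ^ f + 1) * f :=
    S2130.result r f (by rw [hK, ← pow_mul, mul_comm]) hf
  have hA := card_aut hs hna
  have h2 : 2 ≤ r ^ f := hq.two_le
  have hfq : f < r ^ f := Nat.lt_pow_self hr.one_lt
  have hf1 : r ^ f = 2 → f = 1 := by
    intro h
    have : f < 2 := by omega
    omega
  generalize hqq : r ^ f = q at *
  rw [hout] at hA
  have hA' : Nat.card (MulAut ↥(Lie.twistedE6 K q)) =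
      2 * f * (q ^ 36 * (q ^ 2 - 1) * (q ^ 5 + 1) * (q ^ 6 - 1) * (q ^ 8 - 1) * (q ^ 9 + 1) * (q ^ 12 - 1)) := by
    rw [hA, ← hT]; ring
  have hbd : q ^ 36 * (q ^ 2 - 1) * (q ^ 5 + 1) * (q ^ 6 - 1) * (q ^ 8 - 1) * (q ^ 9 + 1) * (q ^ 12 - 1) ≤ q ^ 80 := by
    have e5 : q ^ 5 + 1 ≤ q ^ 6 := by
      have : q ^ 5 < q ^ 6 := Nat.pow_lt_pow_right (by omega) (by norm_num)
      omega
    have e9 : q ^ 9 + 1 ≤ q ^ 10 := by
      have : q ^ 9 < q ^ 10 := Nat.pow_lt_pow_right (by omega) (by norm_num)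
      omega
    calc _ ≤ q ^ 36 * q ^ 2 * q ^ 6 * q ^ 6 * q ^ 8 * q ^ 10 * q ^ 12 :=
          Nat.mul_le_mul (Nat.mul_le_mul (Nat.mul_le_mul (Nat.mul_le_mul (Nat.mul_le_mul
            (Nat.mul_le_mul_left _ (Nat.sub_le _ _)) e5) (Nat.sub_le _ _)) (Nat.sub_le _ _)) e9) (Nat.sub_le _ _)
      _ = q ^ 80 := by ring
  have hA2 : Nat.card (MulAut ↥(Lie.twistedE6 K q)) ≤ q ^ 82 := by
    rw [hA']
    calc _ ≤ q * q * q ^ 80 := Nat.mul_le_mul (Nat.mul_le_mul h2 hfq.le) hbd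
      _ = q ^ 82 := by ring
  -- the small primes
  have hcop : ∀ t : ℕ, t.Prime → t ≠ 3 → t ∣ q ^ 36 * (q ^ 2 - 1) * (q ^ 5 + 1) * (q ^ 6 - 1) * (q ^ 8 - 1) * (q ^ 9 + 1) *
      (q ^ 12 - 1) → t ∣ Nat.card ↥(Lie.twistedE6 K q) := by
    intro t ht h3 h
    rw [← hT] at h
    refine (ht.dvd_mul.1 h).resolve_left fun h4 => h3 ?_
    have h5 : t ∣ 3 := h4.trans (Nat.gcd_dvd_left _ _)
    exact (Nat.prime_dvd_prime_iff_eq ht Nat.prime_three).1 h5
  obtain ⟨d2, d3⟩ := dvd_six (q := q) (a := 36) (c := (q ^ 5 + 1) * (q ^ 6 - 1) * (q ^ 8 - 1) * (q ^ 9 + 1) *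
      (q ^ 12 - 1)) (by omega) (by norm_num)
  have D2 : 2 ∣ Nat.card ↥(Lie.twistedE6 K q) := by
    refine hcop 2 Nat.prime_two (by norm_num) ?_
    simpa [mul_assoc] using d2
  have D3 : 3 ∣ Nat.card ↥(Lie.twistedE6 K q) := by
    by_cases h3 : 3 ∣ q
    · have h4 : 3 ∣ Nat.gcd 3 (q + 1) * Nat.card ↥(Lie.twistedE6 K q) := by
        rw [hT]
        simpa [mul_assoc] using d3
      refine (Nat.prime_three.dvd_mul.1 h4).resolve_left fun h5 => ?_
      have h6 : 3 ∣ q + 1 := h5.trans (Nat.gcd_dvd_right _ _)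
      omega
    · -- `9` divides the product
      have e2 : 3 ∣ q ^ 2 - 1 := dvd_three_of_sq (by omega) h3
      have e6 : 3 ∣ q ^ 6 - 1 := by
        have := dvd_three_of_sq (q := q ^ 3) (Nat.pos_of_ne_zero (by positivity)) (fun h => h3 (Nat.prime_three.dvd_of_dvd_pow h))
        rwa [← pow_mul] at this
      have h9 : 3 * 3 ∣ Nat.gcd 3 (q + 1) * Nat.card ↥(Lie.twistedE6 K q) := by
        rw [hT]
        have e : q ^ 36 * (q ^ 2 - 1) * (q ^ 5 + 1) * (q ^ 6 - 1) * (q ^ 8 - 1) * (q ^ 9 + 1) * (q ^ 12 - 1) =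
            ((q ^ 2 - 1) * (q ^ 6 - 1)) * (q ^ 36 * (q ^ 5 + 1) * (q ^ 8 - 1) * (q ^ 9 + 1) * (q ^ 12 - 1)) := by ring
        rw [e]
        exact Dvd.dvd.mul_right (Nat.mul_dvd_mul e2 e6) _
      by_contra hcon
      have hco : Nat.Coprime 3 (Nat.card ↥(Lie.twistedE6 K q)) := (Nat.prime_three.coprime_iff_not_dvd).2 hcon
      have h10 : 3 * 3 ∣ Nat.gcd 3 (q + 1) := (Nat.Coprime.mul_left hco hco).dvd_of_dvd_mul_right h9
      have h11 : 3 * 3 ∣ 3 := h10.trans (Nat.gcd_dvd_left _ _)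
      norm_num at h11
  by_cases h3 : 3 ≤ q
  · refine dead_four (s := q) (k := 82) ?_ D2 D3 hA2 ?_
    · have : 1 * 1 ≤ (q - 1) * q ^ 6 := Nat.mul_le_mul (by omega) (Nat.pos_of_ne_zero (by positivity))
      have : 2 * 3 ^ 6 ≤ (q - 1) * q ^ 6 := Nat.mul_le_mul (by omega) (Nat.pow_le_pow_left h3 6)
      omega
    · have h4 : 486 * q ≤ (q - 1) * q ^ 6 := by
        have e1 : 2 * (243 * q) ≤ (q - 1) * q ^ 6 := by
          refine Nat.mul_le_mul (by omega) ?_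
          have e2 : q ^ 6 = q ^ 5 * q := by ring
          rw [e2]
          refine Nat.mul_le_mul_right _ ?_
          calc 243 = 3 ^ 5 := by norm_num
            _ ≤ q ^ 5 := Nat.pow_le_pow_left h3 5
        omega
      omega
  · have h6 : q = 2 := by omega
    have hf' := hf1 h6
    subst h6
    have hn : 64 ≤ n := by simpa using hd
    have D5 : 5 ∣ Nat.card ↥(Lie.twistedE6 K 2) := hcop 5 (by norm_num) (by norm_num) (by norm_num)
    refine dead_of_pow (b := 7) (by omega) (fun q hq hc => b7 D2 D3 D5 hq hc) ?_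
    have h1 : (7 : ℕ) ^ 62 ≤ 7 ^ (n - 2) := Nat.pow_le_pow_right (by norm_num) (by omega)
    calc Nat.card (MulAut ↥(Lie.twistedE6 K 2)) ^ 2 ≤ (2 ^ 82) ^ 2 := Nat.pow_le_pow_left hA2 2
      _ ≤ 2 * 7 ^ 62 := by norm_num
      _ ≤ _ := by omega

/-! ### `²F₄(q)` -/

theorem dead_2f4 {F : Type v} [Field F] [Fintype F] {m n : ℕ} (hm : 1 ≤ m) (hF : Fintype.card F = 2 ^ (2 * m + 1))
    (hd : (2 ^ (2 * m + 1) - 1) * (2 ^ (2 * m + 1)) ^ 2 ≤ n) : Dead n ↥(Lie.twistedF4 F (2 ^ m)) := by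
  obtain ⟨hs, hna⟩ := S1072.result hm hF
  have hT := S1068.result hF
  have hout : Nat.card (Out ↥(Lie.twistedF4 F (2 ^ m))) ≤ 2 ^ (2 * m + 1) := by
    rw [S2128.result hm hF]
    exact (Nat.lt_two_pow_self).le
  have hA := card_aut hs hna
  have h8 : 8 ≤ 2 ^ (2 * m + 1) := by
    calc 8 = 2 ^ 3 := by norm_num
      _ ≤ _ := Nat.pow_le_pow_right (by norm_num) (by omega)
  have h2q : 2 ∣ 2 ^ (2 * m + 1) := dvd_pow_self 2 (by omega)
  have h3q : ¬ 3 ∣ 2 ^ (2 * m + 1) := fun h => absurd (Nat.prime_three.dvd_of_dvd_pow h) (by norm_num)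
  generalize 2 ^ (2 * m + 1) = q at *
  have e3 : q ^ 3 + 1 ≤ q ^ 4 := by
    have : q ^ 3 < q ^ 4 := Nat.pow_lt_pow_right (by omega) (by norm_num)
    omega
  have e6 : q ^ 6 + 1 ≤ q ^ 7 := by
    have : q ^ 6 < q ^ 7 := Nat.pow_lt_pow_right (by omega) (by norm_num)
    omega
  have h1 : Nat.card ↥(Lie.twistedF4 F (2 ^ m)) ≤ q ^ 28 := by
    rw [hT]
    calc q ^ 12 * (q - 1) * (q ^ 3 + 1) * (q ^ 4 - 1) * (q ^ 6 + 1) ≤ q ^ 12 * q * q ^ 4 * q ^ 4 * q ^ 7 :=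
          Nat.mul_le_mul (Nat.mul_le_mul (Nat.mul_le_mul (Nat.mul_le_mul_left _ (Nat.sub_le _ _)) e3)
            (Nat.sub_le _ _)) e6
      _ = q ^ 28 := by ring
  have d2 : 2 ∣ Nat.card ↥(Lie.twistedF4 F (2 ^ m)) := by
    rw [hT]
    exact Dvd.dvd.mul_right (Dvd.dvd.mul_right (Dvd.dvd.mul_right (Dvd.dvd.mul_right
      (h2q.trans (dvd_pow_self _ (by norm_num))) _) _) _) _
  have d3 : 3 ∣ Nat.card ↥(Lie.twistedF4 F (2 ^ m)) := by
    rw [hT]
    have h := dvd_three_of_sq (q := q ^ 2) (Nat.pos_of_ne_zero (by positivity)) (fun h => h3q (Nat.prime_three.dvd_of_dvd_pow h))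
    rw [← pow_mul] at h
    exact Dvd.dvd.mul_right (Dvd.dvd.mul_left h _) _
  have h56 : 56 * q ≤ (q - 1) * q ^ 2 := by
    have e1 : 7 * (8 * q) ≤ (q - 1) * q ^ 2 := by
      refine Nat.mul_le_mul (by omega) ?_
      rw [sq]
      exact Nat.mul_le_mul_right _ h8
    omega
  refine dead_four (s := q) (k := 29) (by omega) d2 d3 ?_ (by omega)
  rw [hA]
  calc _ ≤ q * q ^ 28 := Nat.mul_le_mul hout h1
    _ = q ^ 29 := by ring

/-! ### `Sz(q)` -/

theorem pow_twelve (n : ℕ) (hn : 128 ≤ n) : n ^ 12 ≤ 2 * 3 ^ (n - 3) := by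
  induction n, hn using Nat.le_induction with
  | base => norm_num
  | succ n hn ih =>
    have e : n + 1 - 3 = n - 3 + 1 := by omega
    rw [e, pow_succ 3]
    have h1 : (n + 1) ^ 12 ≤ 3 * n ^ 12 := by
      have h3 : 128 * (n + 1) ≤ 129 * n := by omega
      have h4 : (128 * (n + 1)) ^ 12 ≤ (129 * n) ^ 12 := Nat.pow_le_pow_left h3 12
      rw [mul_pow, mul_pow] at h4
      have h5 : (129 : ℕ) ^ 12 ≤ 3 * 128 ^ 12 := by norm_num
      have h6 : 128 ^ 12 * (n + 1) ^ 12 ≤ 128 ^ 12 * (3 * n ^ 12) := by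
        calc _ ≤ 129 ^ 12 * n ^ 12 := h4
          _ ≤ 3 * 128 ^ 12 * n ^ 12 := Nat.mul_le_mul_right _ h5
          _ = _ := by ring
      exact Nat.le_of_mul_le_mul_left h6 (by norm_num)
    omega

theorem dead_sz {F : Type v} [Field F] [Fintype F] {m n : ℕ} (hm : 1 ≤ m) (hF : Fintype.card F = 2 ^ (2 * m + 1))
    (hn : 13 ≤ n) (hd : 2 ^ (2 * m + 1) - 1 ≤ n) : Dead n ↥(Lie.Sz F (2 ^ (m + 1))) := by
  have hs := S1162.result hm hF
  have hT := (S1163.result hm hF).1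
  have hna : ¬ IsMulCommutative ↥(Lie.Sz F (2 ^ (m + 1))) := by
    intro hc
    have h1 := S1163.result hm hF
    have hp : (Nat.card ↥(Lie.Sz F (2 ^ (m + 1)))).Prime := by
      have : IsCyclic ↥(Lie.Sz F (2 ^ (m + 1))) := by
        letI : CommGroup ↥(Lie.Sz F (2 ^ (m + 1))) := { (inferInstance : Group ↥(Lie.Sz F (2 ^ (m + 1)))) with mul_comm := hc.is_comm.comm }
        exact IsSimpleGroup.isCyclic
      letI : CommGroup ↥(Lie.Sz F (2 ^ (m + 1))) := { (inferInstance : Group ↥(Lie.Sz F (2 ^ (m + 1)))) with mul_comm := hc.is_comm.comm }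
      exact IsSimpleGroup.prime_card
    have h8 : 8 ≤ 2 ^ (2 * m + 1) := by
      calc 8 = 2 ^ 3 := by norm_num
        _ ≤ _ := Nat.pow_le_pow_right (by norm_num) (by omega)
    rw [hT] at hp
    generalize 2 ^ (2 * m + 1) = q at *
    have h1 := Nat.not_prime_mul (a := q ^ 2 * (q - 1)) (b := q ^ 2 + 1) ?_ ?_
    · exact h1 hp
    · intro h2
      have := Nat.eq_one_of_mul_eq_one_right h2
      nlinarith
    · nlinarith
  have hout := S2126.result hm hF
  have hA := card_aut hs hna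
  rw [hout] at hA
  have hm3 : m = 1 ∨ m = 2 ∨ 3 ≤ m := by omega
  rcases hm3 with rfl | rfl | hm3
  · have hT' : Nat.card ↥(Lie.Sz F (2 ^ (1 + 1))) = 29120 := by rw [hT]; norm_num
    rw [hT'] at hA
    exact sieve_dead (n₀ := 13) (A := 87360) 3 200 200 hT' (by rw [hA]) (by norm_num) (by norm_num) (by norm_num)
      (by decide) (by decide) hn
  · have hT' : Nat.card ↥(Lie.Sz F (2 ^ (2 + 1))) = 32537600 := by rw [hT]; norm_num
    rw [hT'] at hA
    exact sieve_dead (n₀ := 31) (A := 162688000) 3 200 200 hT' (by rw [hA]) (by norm_num) (by norm_num) (by norm_num)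
      (by decide) (by decide) (by simpa using hd)
  · have h128 : 128 ≤ 2 ^ (2 * m + 1) := by
      calc 128 = 2 ^ 7 := by norm_num
        _ ≤ _ := Nat.pow_le_pow_right (by norm_num) (by omega)
    have h2q : 2 ∣ 2 ^ (2 * m + 1) := dvd_pow_self 2 (by omega)
    have hmq : 2 * m + 1 ≤ 2 ^ (2 * m + 1) := Nat.lt_two_pow_self.le
    generalize 2 ^ (2 * m + 1) = q at *
    have d2 : 2 ∣ Nat.card ↥(Lie.Sz F (2 ^ (m + 1))) := by
      rw [hT]
      exact Dvd.dvd.mul_right (Dvd.dvd.mul_right (h2q.trans (dvd_pow_self _ (by norm_num))) _) _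
    have h1 : Nat.card ↥(Lie.Sz F (2 ^ (m + 1))) ≤ q ^ 5 := by
      rw [hT]
      obtain ⟨k, rfl⟩ : ∃ k, q = k + 1 := ⟨q - 1, by omega⟩
      rw [Nat.add_sub_cancel]
      calc (k + 1) ^ 2 * k * ((k + 1) ^ 2 + 1) = (k + 1) ^ 2 * (k * ((k + 1) ^ 2 + 1)) := by ring
        _ ≤ (k + 1) ^ 2 * (k + 1) ^ 3 := Nat.mul_le_mul_left _ (by nlinarith [sq_nonneg k])
        _ = (k + 1) ^ 5 := by ring
    refine dead_of_pow (b := 3) (by omega) (fun q hq hc => b3 d2 hq hc) ?_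
    calc Nat.card (MulAut ↥(Lie.Sz F (2 ^ (m + 1)))) ^ 2 ≤ (q * q ^ 5) ^ 2 := by
          rw [hA]
          exact Nat.pow_le_pow_left (Nat.mul_le_mul hmq h1) 2
      _ = q ^ 12 := by ring
      _ ≤ 2 * 3 ^ (q - 3) := pow_twelve q h128
      _ ≤ 2 * 3 ^ (n - 2) := Nat.mul_le_mul_left _ (Nat.pow_le_pow_right (by norm_num) (by omega))

/-! ### `²G₂(q)` -/

theorem pow_sixteen (n : ℕ) (hn : 128 ≤ n) : n ^ 16 ≤ 2 * 5 ^ (n - 3) := by
  induction n, hn using Nat.le_induction with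
  | base => norm_num
  | succ n hn ih =>
    have e : n + 1 - 3 = n - 3 + 1 := by omega
    rw [e, pow_succ 5]
    have h1 : (n + 1) ^ 16 ≤ 5 * n ^ 16 := by
      have h3 : 128 * (n + 1) ≤ 129 * n := by omega
      have h4 : (128 * (n + 1)) ^ 16 ≤ (129 * n) ^ 16 := Nat.pow_le_pow_left h3 16
      rw [mul_pow, mul_pow] at h4
      have h5 : (129 : ℕ) ^ 16 ≤ 5 * 128 ^ 16 := by norm_num
      have h6 : 128 ^ 16 * (n + 1) ^ 16 ≤ 128 ^ 16 * (5 * n ^ 16) := by
        calc _ ≤ 129 ^ 16 * n ^ 16 := h4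
          _ ≤ 5 * 128 ^ 16 * n ^ 16 := Nat.mul_le_mul_right _ h5
          _ = _ := by ring
      exact Nat.le_of_mul_le_mul_left h6 (by norm_num)
    omega

theorem dead_ree {F : Type v} [Field F] [Fintype F] {m n : ℕ} (hm : 1 ≤ m) (hF : Fintype.card F = 3 ^ (2 * m + 1))
    (hn : 13 ≤ n) (hd : 3 ^ (2 * m + 1) - 1 ≤ n) : Dead n ↥(Lie.twistedG2 F (3 ^ m)) := by
  obtain ⟨hs, hna⟩ := S1073.result hm hF
  have hT := S1069.result hF
  have hout := S2127.result hm hF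
  have hA := card_aut hs hna
  rw [hout] at hA
  have hm3 : m = 1 ∨ 2 ≤ m := by omega
  rcases hm3 with rfl | hm3
  · have hT' : Nat.card ↥(Lie.twistedG2 F (3 ^ 1)) = 10073444472 := by rw [hT]; norm_num
    rw [hT'] at hA
    exact sieve_dead (n₀ := 26) (A := 30220333416) 5 200 200 hT' (by rw [hA]) (by norm_num) (by norm_num) (by norm_num)
      (by decide) (by decide) (by simpa using hd)
  · have h128 : 243 ≤ 3 ^ (2 * m + 1) := by
      calc 243 = 3 ^ 5 := by norm_num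
        _ ≤ _ := Nat.pow_le_pow_right (by norm_num) (by omega)
    have h3q : 3 ∣ 3 ^ (2 * m + 1) := dvd_pow_self 3 (by omega)
    have h2q : ¬ 2 ∣ 3 ^ (2 * m + 1) := fun h => absurd (Nat.prime_two.dvd_of_dvd_pow h) (by norm_num)
    have hmq : 2 * m + 1 ≤ 3 ^ (2 * m + 1) := (Nat.lt_pow_self (by norm_num)).le
    generalize 3 ^ (2 * m + 1) = q at *
    have d3 : 3 ∣ Nat.card ↥(Lie.twistedG2 F (3 ^ m)) := by
      rw [hT]
      exact Dvd.dvd.mul_right (Dvd.dvd.mul_right (h3q.trans (dvd_pow_self _ (by norm_num))) _) _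
    have d2 : 2 ∣ Nat.card ↥(Lie.twistedG2 F (3 ^ m)) := by
      rw [hT]
      refine Dvd.dvd.mul_right (Dvd.dvd.mul_left ?_ _) _
      omega
    have h1 : Nat.card ↥(Lie.twistedG2 F (3 ^ m)) ≤ q ^ 7 := by
      rw [hT]
      obtain ⟨k, rfl⟩ : ∃ k, q = k + 1 := ⟨q - 1, by omega⟩
      rw [Nat.add_sub_cancel]
      calc (k + 1) ^ 3 * k * ((k + 1) ^ 3 + 1) = (k + 1) ^ 3 * (k * ((k + 1) ^ 3 + 1)) := by ring
        _ ≤ (k + 1) ^ 3 * (k + 1) ^ 4 := Nat.mul_le_mul_left _ (by nlinarith [sq_nonneg k, pow_nonneg (Nat.zero_le k) 3])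
        _ = (k + 1) ^ 7 := by ring
    refine dead_of_pow (b := 5) (by omega) (fun q hq hc => b5 d2 d3 hq hc) ?_
    calc Nat.card (MulAut ↥(Lie.twistedG2 F (3 ^ m))) ^ 2 ≤ (q * q ^ 7) ^ 2 := by
          rw [hA]
          exact Nat.pow_le_pow_left (Nat.mul_le_mul hmq h1) 2
      _ = q ^ 16 := by ring
      _ ≤ 2 * 5 ^ (q - 3) := pow_sixteen q (by omega)
      _ ≤ 2 * 5 ^ (n - 2) := Nat.mul_le_mul_left _ (Nat.pow_le_pow_right (by norm_num) (by omega))

/-! ### The Tits group -/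

theorem dead_tits {T : Type v} [Group T] {n : ℕ} (h : Lie.IsoTits T) (hs : IsSimpleGroup T)
    (hna : ¬ IsMulCommutative T) (hT : Nat.card T = 17971200) (hd : 16 ≤ n) : Dead n T := by
  have hfin : Finite T := Nat.finite_of_card_ne_zero (by rw [hT]; norm_num)
  have hA := card_aut hs hna
  have hout : Nat.card (Out T) ≤ 2 := H867.TitsOut.card_out_le h
  have hpos : 0 < Nat.card (Out T) := Nat.card_pos
  have h12 : Nat.card (Out T) = 1 ∨ Nat.card (Out T) = 2 := by omega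
  rw [hT] at hA
  rcases h12 with h | h
  · rw [h] at hA
    exact sieve_dead (n₀ := 16) (A := 17971200) 7 200 200 hT (by rw [hA]) (by norm_num) (by norm_num) (by norm_num)
      (by decide) (by decide) hd
  · rw [h] at hA
    exact sieve_dead (n₀ := 16) (A := 35942400) 7 200 200 hT (by rw [hA]) (by norm_num) (by norm_num) (by norm_num)
      (by decide) (by decide) hd

/-! ### The task -/

/-- **B8.** -/
theorem dead_twisted {F : Type u} [Field F] [Finite F] {n p : ℕ} [Fact p.Prime] [CharP F p]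
    {P : Subgroup (Matrix.GeneralLinearGroup (Fin n) F)} (hC : Core P) (hn : 13 ≤ n) (hp : ¬ p ∣ Nat.card (Soc P))
    (hT : (∃ r, Cfsg.IsTwistedE6D4Char r (Soc P)) ∨ Cfsg.Lie.IsoSuzuki (Soc P) ∨ Cfsg.Lie.Iso2F4 (Soc P) ∨
      Cfsg.Lie.IsoRee (Soc P) ∨ Cfsg.Lie.IsoTits (Soc P)) : Dead n (Soc P) := by
  have hsim : IsSimpleGroup (Soc P) := hC.simple
  have key : ∀ {r d : ℕ} {T' : Type} [Group T'], r ∣ Nat.card (Soc P) → LS.{0, u, u} r d T' → (Soc P ≃* T') →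
      d ≤ n := by
    intro r d T' _ hr hls e'
    have hrF : (r : F) ≠ 0 := by
      intro h0
      have h1 : p ∣ r := (CharP.cast_eq_zero_iff F p r).1 h0
      exact hp (h1.trans hr)
    have : Nontrivial (Soc P) := inferInstance
    exact H912.Bd.le_of_ls (LS.congr e'.symm hls) hrF P hC.perfect (MulEquiv.refl _)
  rcases hT with ⟨r, K, _, _, _, q, hq, h⟩ | ⟨K, _, _, m, hm, hK, ⟨e'⟩⟩ | ⟨K, _, _, m, hm, hK, ⟨e'⟩⟩ |
    ⟨K, _, _, m, hm, hK, ⟨e'⟩⟩ | e0
  · have hr : r.Prime := (CharP.char_is_prime_or_zero K r).resolve_right (CharP.char_ne_zero_of_finite K r)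
    have : Fact r.Prime := ⟨hr⟩
    rcases h with ⟨hK, ⟨e'⟩⟩ | ⟨hK, ⟨e'⟩⟩
    · have hrq : r ∣ q := by
        have h1 : r ∣ Fintype.card K := (CharP.cast_eq_zero_iff K r _).1 (Nat.cast_card_eq_zero K)
        rw [hK] at h1
        exact hr.dvd_of_dvd_pow h1
      have hcard : r ∣ Nat.card (Soc P) := by
        rw [Nat.card_congr e'.toEquiv]
        have h1 := S1066.result hq hK
        have h2 : r ∣ Nat.gcd 3 (q + 1) * Nat.card ↥(Lie.twistedE6 K q) := by
          rw [h1, mul_assoc, mul_assoc, mul_assoc, mul_assoc, mul_assoc]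
          exact Dvd.dvd.mul_right (hrq.trans (dvd_pow_self _ (by norm_num))) _
        refine (hr.dvd_mul.1 h2).resolve_left fun h3 => ?_
        have h4 : r ∣ q + 1 := h3.trans (Nat.gcd_dvd_right _ _)
        have h5 : r ∣ 1 := (Nat.dvd_add_right hrq).1 h4
        exact hr.one_lt.ne' (Nat.dvd_one.1 h5)
      exact (dead_2e6 hq hK (key hcard (TwE6.ls hq hK) e')).congr e'.symm
    · have hrq : r ∣ q := by
        have h1 : r ∣ Fintype.card K := (CharP.cast_eq_zero_iff K r _).1 (Nat.cast_card_eq_zero K)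
        rw [hK] at h1
        exact hr.dvd_of_dvd_pow h1
      have hcard : r ∣ Nat.card (Soc P) := by
        rw [Nat.card_congr e'.toEquiv, S1067.result hq hK]
        exact Dvd.dvd.mul_right (Dvd.dvd.mul_right (Dvd.dvd.mul_right (hrq.trans (dvd_pow_self _ (by norm_num))) _) _) _
      exact (dead_3d4 hq hK hn (key hcard (TwD4.ls hq hK) e')).congr e'.symm
  · have hcard : 2 ∣ Nat.card (Soc P) := by
      rw [Nat.card_congr e'.toEquiv, (S1163.result hm hK).1]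
      exact Dvd.dvd.mul_right (Dvd.dvd.mul_right ((dvd_pow_self 2 (by omega)).trans (dvd_pow_self _ (by norm_num))) _) _
    have h := key hcard (LS.sz hm hK) e'
    rw [Nat.card_eq_fintype_card, hK] at h
    exact (dead_sz hm hK hn h).congr e'.symm
  · have hcard : 2 ∣ Nat.card (Soc P) := by
      rw [Nat.card_congr e'.toEquiv, S1068.result hK, mul_assoc, mul_assoc, mul_assoc]
      exact Dvd.dvd.mul_right ((dvd_pow_self 2 (by omega)).trans (dvd_pow_self _ (by norm_num))) _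
    have h := key hcard (TwF4.ls hm hK) e'
    rw [Nat.card_eq_fintype_card, hK] at h
    exact (dead_2f4 hm hK h).congr e'.symm
  · have hcard : 3 ∣ Nat.card (Soc P) := by
      rw [Nat.card_congr e'.toEquiv, S1069.result hK]
      exact Dvd.dvd.mul_right (Dvd.dvd.mul_right ((dvd_pow_self 3 (by omega)).trans (dvd_pow_self _ (by norm_num))) _) _
    have h := key hcard (LS.ree hm hK) e'
    rw [Nat.card_eq_fintype_card, hK] at h
    exact (dead_ree hm hK hn h).congr e'.symm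
  · have hT' : Nat.card (Soc P) = 17971200 := by
      obtain ⟨e'⟩ := e0
      rw [Nat.card_congr e'.toEquiv, S1074.result.2.2.2]
      norm_num
    have h : 16 ≤ n := by
      obtain ⟨e'⟩ := e0
      exact key (r := 2) (by rw [hT']; norm_num) H95.LSx.Tits.ls e'
    exact dead_tits e0 hsim hC.nonabelian hT' h

end Cfsg.Agent.H638.HT
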